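import Cfsg.Agent.Lib.Comp.P43x.Base

set_option maxRecDepth 100000
set_option Elab.async false

namespace Cfsg.Lib.Comp.P43x

universe u

noncomputable def nets_1 : Net :=
 (Net.cons 24 (nat_lit 0x3c02c)
 (Net.cons 12 (nat_lit 0x78000104)
 (Net.cons 6 (nat_lit 0x18008)
 (Net.cons 3 (nat_lit 0x6004)
 (Net.cons 1 (nat_lit 0x41000241000)
 (Net.cons 1 (nat_lit 0x92012090002)
 (Net.cons 1 (nat_lit 0x41000040000)
 (Net.cons 3 (nat_lit 0x7002040)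
 (Net.cons 6 (nat_lit 0x7000018008)
 (Net.cons 12 (nat_lit 0x780009a2)
 (Net.cons 24 (nat_lit 0x3c02c)
 Net.nil)))))))))))

noncomputable def nets_2 : Net :=
 (Net.cons 12 (nat_lit 0xe00000ff8)
 (Net.cons 6 (nat_lit 0x8002000008)
 (Net.cons 3 (nat_lit 0x2002000080)
 (Net.cons 1 (nat_lit 0x248041000208)
 (Net.cons 1 (nat_lit 0x80000090000)
 (Net.cons 1 (nat_lit 0x40000000000)
 (Net.cons 3 (nat_lit 0x20021c7080)
 (Net.cons 6 (nat_lit 0x2800603f028)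
 (Net.cons 12 (nat_lit 0xe00000ff8)
 Net.nil)))))))))

noncomputable def nets_3 : Net :=
 (Net.cons 24 (nat_lit 0x21186)
 (Net.cons 12 (nat_lit 0xa8000088)
 (Net.cons 6 (nat_lit 0x20008014018)
 (Net.cons 3 (nat_lit 0x100080080104)
 (Net.cons 1 (nat_lit 0x241249200)
 (Net.cons 1 (nat_lit 0x80080092410)
 (Net.cons 1 (nat_lit 0x40049008)
 (Net.cons 3 (nat_lit 0x102084005106)
 (Net.cons 6 (nat_lit 0x24008016006)
 (Net.cons 12 (nat_lit 0xa800021a)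
 (Net.cons 24 (nat_lit 0x21186)
 Net.nil)))))))))))

noncomputable def nets_4 : Net :=
 (Net.cons 24 (nat_lit 0x1b0d10)
 (Net.cons 12 (nat_lit 0x4b0000d18)
 (Net.cons 6 (nat_lit 0x4008028010)
 (Net.cons 3 (nat_lit 0x100002102106)
 (Net.cons 1 (nat_lit 0x201201048)
 (Net.cons 1 (nat_lit 0x402400480492)
 (Net.cons 1 (nat_lit 0x200200048)
 (Net.cons 3 (nat_lit 0x183006102106)
 (Net.cons 6 (nat_lit 0x12008028010)
 (Net.cons 12 (nat_lit 0x4b0000f18)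
 (Net.cons 24 (nat_lit 0x1b0d12)
 Net.nil)))))))))))

noncomputable def nets_5 : Net :=
 (Net.cons 24 (nat_lit 0xabd8a8)
 (Net.cons 12 (nat_lit 0x110000054)
 (Net.cons 6 (nat_lit 0x20010008002)
 (Net.cons 3 (nat_lit 0x102104002000)
 (Net.cons 1 (nat_lit 0x8049001009)
 (Net.cons 1 (nat_lit 0x92482012400)
 (Net.cons 1 (nat_lit 0x8041001000)
 (Net.cons 3 (nat_lit 0x142104042004)
 (Net.cons 6 (nat_lit 0x20033008002)
 (Net.cons 12 (nat_lit 0x110000054)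
 (Net.cons 24 (nat_lit 0xabd8a8)
 Net.nil)))))))))))

noncomputable def nets_64 : Net :=
 (Net.cons 24 (nat_lit 0x5fef54)
 (Net.cons 12 (nat_lit 0xa18000606)
 (Net.cons 6 (nat_lit 0x3601c004026)
 (Net.cons 3 (nat_lit 0x184180002104)
 (Net.cons 1 (nat_lit 0x208041008248)
 (Net.cons 1 (nat_lit 0x490400090490)
 (Net.cons 1 (nat_lit 0x40000040208)
 (Net.cons 3 (nat_lit 0x431c41c3142)
 (Net.cons 6 (nat_lit 0xf00d015008)
 (Net.cons 12 (nat_lit 0xeb5000e4c)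
 (Net.cons 24 (nat_lit 0x5ffdc8)
 Net.nil)))))))))))

noncomputable def nets_66 : Net :=
 (Net.cons 12 (nat_lit 0xe00000fd8)
 (Net.cons 6 (nat_lit 0xa00c01002a)
 (Net.cons 3 (nat_lit 0x82002082)
 (Net.cons 1 (nat_lit 0x249241000248)
 (Net.cons 1 (nat_lit 0x410082490410)
 (Net.cons 1 (nat_lit 0x200040208200)
 (Net.cons 3 (nat_lit 0x460c61451c2)
 (Net.cons 6 (nat_lit 0x3900b02903a)
 (Net.cons 12 (nat_lit 0xe00000fb8)
 Net.nil)))))))))

noncomputable def nets_68 : Net :=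
 (Net.cons 12 (nat_lit 0xfe0)
 (Net.cons 6 (nat_lit 0x20000000)
 (Net.cons 3 (nat_lit 0x2180086080)
 (Net.cons 1 (nat_lit 0x8048041208)
 (Net.cons 1 (nat_lit 0x92480492480)
 (Net.cons 1 (nat_lit 0x1040201040)
 (Net.cons 3 (nat_lit 0x5180146140)
 (Net.cons 6 (nat_lit 0x20021000)
 (Net.cons 12 (nat_lit 0xfe0)
 Net.nil)))))))))

noncomputable def nets : List Net := (apd [Net.nil,
 nets_1,
 nets_2,
 nets_3,
 nets_4,
 nets_5,
 Net.nil,
 Net.nil,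
 Net.nil,
 Net.nil,
 Net.nil,
 Net.nil,
 Net.nil,
 Net.nil,
 Net.nil,
 Net.nil,
 Net.nil,
 Net.nil,
 Net.nil,
 Net.nil,
 Net.nil,
 Net.nil,
 Net.nil,
 Net.nil,
 Net.nil,
 Net.nil,
 Net.nil,
 Net.nil,
 Net.nil,
 Net.nil,
 Net.nil,
 Net.nil,
 Net.nil,
 Net.nil,
 Net.nil,
 Net.nil,
 Net.nil,
 Net.nil,
 Net.nil,
 Net.nil]
 [Net.nil,
 Net.nil,
 Net.nil,
 Net.nil,
 Net.nil,
 Net.nil,
 Net.nil,
 Net.nil,
 Net.nil,
 Net.nil,
 Net.nil,
 Net.nil,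
 Net.nil,
 Net.nil,
 Net.nil,
 Net.nil,
 Net.nil,
 Net.nil,
 Net.nil,
 Net.nil,
 Net.nil,
 Net.nil,
 Net.nil,
 Net.nil,
 nets_64,
 Net.rev nets_64,
 nets_66,
 Net.rev nets_66,
 nets_68])

theorem nets_ok : NetsOK 48 nets := netsOK_of (by decide +kernel)

theorem nets_rel : Rels (gp nets) R := rels_of_relsB (k := 6) nets_ok (by norm_num) (by decide +kernel)

theorem nets_iv : IvOK (gp nets) iv := ivOK_of_ivB (k := 6) nets_ok (by norm_num) (by decide +kernel)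

noncomputable def slp : List (ℕ × List ℕ) := [(64,[5,3,2,1,4,5,3,2,4,5]),
 (65,[5,4,2,3,5,4,1,2,3,5]),
 (66,[1,4,64,3,1]),
 (67,[1,3,65,4,1]),
 (68,[67,2,66])]

theorem slp_ok : slpB 48 6 nets slp L = true := by decide +kernel

theorem mem_all {x : ℕ} (h : x ∈ L ++ slp.map (·.1)) : gp nets x ∈ cl (gp nets) L :=
  cl_eq_of_slpB nets_ok (by norm_num) slp_ok ▸ mem_cl h

theorem lb : 25920 ≤ Nat.card (cl (gp nets) L) := by
  rw [← cl_eq_of_slpB nets_ok (by norm_num) slp_ok]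
  exact lb_of_chainB nets_ok (C := [([1,2,3,4,64,65,66,67,68],[5,3,4,64,66,1,66,5,3,2],0,0,45),
 ([2,66,67,68],[1,3,4,2,66,1,2],1,1,32),
 ([68],[2,66,66,68,2],33,33,9),
 ([],[68],3,3,2)]) (by decide +kernel)

end Cfsg.Lib.Comp.P43x
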