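import Cfsg.Agent.Lib.Comp.P43x.Base

set_option maxRecDepth 100000
set_option Elab.async false

namespace Cfsg.Lib.Comp.P43x

universe u

noncomputable def T3_R : List (List ℕ × ℕ) := [([1],1),
 ([2],1),
 ([1,2],2)]

noncomputable def T3_n_1 : Net :=
 (Net.cons 1 (nat_lit 0x2)
 Net.nil)

noncomputable def T3_n_2 : Net :=
 (Net.cons 1 (nat_lit 0x1)
 Net.nil)

noncomputable def T3_n : List Net := [Net.nil,
 T3_n_1,
 T3_n_2]

theorem T3_n_ok : NetsOK 3 T3_n := netsOK_of (by decide +kernel)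

theorem T3_n_rel : Rels (gp T3_n) T3_R := rels_of_relsB (k := 2) T3_n_ok (by norm_num) (by decide +kernel)

theorem T3_fin : finB 3 T3_n [1,2] 3 (runH 3 T3_n (fun x p => ptInv (nth Net.nil T3_n x) p) iv T3_R [] ([1].map fun x => [x]) 0 []
  [1,0,4,8]
  (defsH 3 T3_n (ones 18) [2,1] (Nat.shiftLeft 1 0) 0)) = true := by decide +kernel

theorem T3_idx : Idx.{u} iv (T3_R ++ []) ([1].map fun x => [x]) [1,2] 3 :=
  Reach.idx T3_n_ok (reach_runH T3_n_ok (fun x p _ => ptInv_gp T3_n_ok x p) T3_n_rel (reach_defsH T3_n_ok _ _ _ _ _ _) _ _) T3_fin (by norm_num)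

end Cfsg.Lib.Comp.P43x
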